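import Mathlib
import Cfsg.Agent.Lib.Helper73.Asch.L1

set_option autoImplicit false

/-! # A permuted independent set of subspaces gives a system of imprimitivity -/

namespace Cfsg.Agent.Lib.Helper73.Asch

open Cfsg Cfsg.Geo Matrix Cfsg.Agent.Lib.Helper13.Asch
open scoped Kronecker MatrixGroups

variable {ι : Type} [Fintype ι] [DecidableEq ι] {F : Type*} [Field F]

theorem toLin'_gl_injective (g : GL ι F) :
    Function.Injective (Matrix.toLin' (g : Matrix ι ι F)) := by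
  intro u v huv
  have := congrArg (Matrix.toLin' ((g⁻¹ : GL ι F) : Matrix ι ι F)) huv
  simpa [Matrix.mulVec_mulVec, ← Units.val_mul] using this

/-- L2a -/
theorem imprimitive_of_set (H : Subgroup (GL ι F)) (hirr : ActsIrreducibly (matrixSet H))
    (𝒟 : Set (Submodule F (ι → F))) (hne : ∀ W ∈ 𝒟, W ≠ ⊥) (hind : sSupIndep 𝒟)
    (h2 : ∃ W ∈ 𝒟, ∃ W' ∈ 𝒟, W ≠ W')
    (hperm : ∀ h ∈ H, ∀ W ∈ 𝒟, W.map (Matrix.toLin' (h : Matrix ι ι F)) ∈ 𝒟) :
    ∃ (t m : ℕ) (D : Fin t → Submodule F (ι → F)), IsMDecomposition m D ∧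
      H ≤ decompositionStabilizer D := by
  obtain ⟨W0, hW0, W1, hW1, h01⟩ := h2
  set O : Set (Submodule F (ι → F)) :=
    {W | ∃ h ∈ H, W = W0.map (Matrix.toLin' (h : Matrix ι ι F))} with hO
  have hOD : O ⊆ 𝒟 := by
    rintro _ ⟨h, hh, rfl⟩
    exact hperm h hh W0 hW0
  have hW0O : W0 ∈ O := ⟨1, H.one_mem, by simp⟩
  have hOtop : sSup O = ⊤ := by
    have hinv : ∀ s ∈ matrixSet H, (sSup O).map (Matrix.toLin' s) ≤ sSup O := by
      rintro _ ⟨g, hg, rfl⟩
      rw [sSup_eq_iSup, Submodule.map_iSup]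
      refine iSup_le fun S => ?_
      rw [Submodule.map_iSup]
      refine iSup_le fun hS => ?_
      rw [← sSup_eq_iSup]
      obtain ⟨h, hh, rfl⟩ := hS
      refine le_sSup ⟨g * h, H.mul_mem hg hh, ?_⟩
      rw [Units.val_mul, Matrix.toLin'_mul, Submodule.map_comp]
    rcases hirr _ hinv with h | h
    · exact absurd (le_bot_iff.1 (h ▸ le_sSup hW0O)) (hne W0 hW0)
    · exact h
  have hDO : 𝒟 ⊆ O := by
    intro W hW
    by_contra hWO
    have hsub : O ⊆ 𝒟 \ {W} := fun X hX => ⟨hOD hX, fun hXW => hWO (hXW ▸ hX)⟩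
    have hd := hind hW
    have htop : sSup (𝒟 \ {W}) = ⊤ := top_le_iff.1 (hOtop ▸ sSup_le_sSup hsub)
    rw [htop] at hd
    exact hne W hW (disjoint_top.1 hd)
  have hfin : 𝒟.Finite := WellFoundedGT.finite_of_sSupIndep hind
  haveI : Finite 𝒟 := hfin
  haveI : Fintype 𝒟 := Fintype.ofFinite 𝒟
  set t := Fintype.card 𝒟 with ht
  let e : 𝒟 ≃ Fin t := Fintype.equivFin 𝒟
  let D : Fin t → Submodule F (ι → F) := fun i => ((e.symm i : 𝒟) : Submodule F (ι → F))
  refine ⟨t, Module.finrank F W0, D, ⟨?_, ?_, ?_, ?_, ?_⟩, ?_⟩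
  · have : 1 < Fintype.card 𝒟 :=
      Fintype.one_lt_card_iff.2 ⟨⟨W0, hW0⟩, ⟨W1, hW1⟩, fun h => h01 (congrArg Subtype.val h)⟩
    exact this
  · exact Module.finrank_pos_iff.2 (Submodule.nontrivial_iff_ne_bot.2 (hne W0 hW0))
  · intro i
    obtain ⟨h, hh, hD⟩ := hDO (e.symm i).2
    show Module.finrank F ((e.symm i : 𝒟) : Submodule F (ι → F)) = _
    rw [hD]
    exact (LinearEquiv.finrank_eq
      (Submodule.equivMapOfInjective _ (toLin'_gl_injective h) W0)).symm
  · exact ((sSupIndep_iff 𝒟).1 hind).comp e.symm.injective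
  · rw [eq_top_iff, ← hOtop]
    refine sSup_le fun W hW => ?_
    have : D (e ⟨W, hOD hW⟩) = W := by simp [D]
    rw [← this]
    exact le_iSup D _
  · intro g hg
    let f : 𝒟 → 𝒟 := fun W => ⟨(W : Submodule F (ι → F)).map (Matrix.toLin' (g : Matrix ι ι F)),
      hperm g hg W W.2⟩
    have hf : Function.Injective f := by
      intro W W' hWW
      have := congrArg Subtype.val hWW
      exact Subtype.ext (Submodule.map_injective_of_injective (toLin'_gl_injective g) this)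
    have hfb : Function.Bijective f := Finite.injective_iff_bijective.1 hf
    refine ⟨(e.symm.trans (Equiv.ofBijective f hfb)).trans e, fun i => ?_⟩
    simp [D, f]

end Cfsg.Agent.Lib.Helper73.Asch
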